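import Cfsg.Agent.Lib.CIT.Orders
import Cfsg.Agent.Lib.GW.Tools

/-!
# The norm of a cyclic Frobenius complement on an abelian normal subgroup
-/

set_option autoImplicit false

namespace Cfsg.Lib.CIT

open Subgroup Cfsg.Lib.BG Cfsg.Lib.Transfer Cfsg.Lib.Spec
open Cfsg.Lib.Inv hiding conj_mem_of_mem_normalizer
open scoped Cfsg.Lib.Transfer MatrixGroups

variable {G : Type*} [Group G] [Finite G] {V K : Subgroup G} {x y : G} {n : ℕ}

theorem sum_eq_card_of_norm {R : Type*} [Ring R] (ρ : G →* R) [Fintype K] (hx : x ∈ 𝐍(K))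
    (hf : ∀ i, 0 < i → i ≤ n → K ⊓ 𝐂[x ^ i] = ⊥) (h : ∑ i ∈ Finset.range (n + 1), ρ x ^ i = 0) :
    ∑ k : K, ρ k = Nat.card K := by
  have h1 : ∑ k : K, ρ k * (∑ i ∈ Finset.range (n + 1), ρ x ^ i) * ρ (k : G)⁻¹ = 0 := by simp [h]
  have h2 : (∑ k : K, ρ k) * ∑ i ∈ Finset.range (n + 1), ρ x ^ i = 0 := by rw [h, mul_zero]
  simp only [Finset.mul_sum, Finset.sum_mul, ← map_pow, ← map_mul] at h1
  rw [Finset.sum_comm, Finset.sum_range_succ', Finset.sum_congr rfl fun i hi => GW.sum_conj_fpf ρ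
    (pow_mem hx _) (hf _ i.succ_pos (Finset.mem_range.1 hi))] at h1
  rw [Finset.sum_range_succ', mul_add, Finset.mul_sum, pow_zero, mul_one] at h2
  simp only [map_pow, pow_zero, mul_one, mul_inv_cancel, map_one, Finset.sum_const, Finset.card_univ,
    nsmul_eq_mul] at h1
  rw [Nat.card_eq_fintype_card]
  exact add_left_cancel (h2.trans h1.symm)

open scoped IsMulCommutative in
/-- If the norm of `x` vanishes on `V` and `K ⟨x⟩` is a Frobenius group then `K` centralizes `V`. -/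
theorem cent_of_norm [V.Normal] (hV : IsMulCommutative V) (hx : x ∈ 𝐍(K))
    (hf : ∀ i, 0 < i → i ≤ n → K ⊓ 𝐂[x ^ i] = ⊥) (hc : (Nat.card K).Coprime (Nat.card V))
    (h : ∀ v ∈ V, (v * x) ^ (n + 1) = x ^ (n + 1)) : K ≤ 𝐂(V) := by
  classical
  have := Fintype.ofFinite G
  let ρ : G →* AddMonoid.End (Additive V) :=
    { toFun := fun g => MonoidHom.toAdditive (MulAut.conjNormal g).toMonoidHom
      map_one' := by rw [map_one]; rfl
      map_mul' := fun g h => by rw [map_mul]; rfl }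
  have h0 : ∀ m (v : Additive V), ((((∑ i ∈ Finset.range m, ρ x ^ i) v).toMul : V) : G) * x ^ m =
      (v.toMul * x) ^ m := fun m v => by
    induction m with
    | zero => simp
    | succ m ih =>
      rw [Finset.sum_range_succ, pow_succ (_ * x), ← ih, ← map_pow]
      change ((((∑ i ∈ Finset.range m, ρ x ^ i) v).toMul : V) : G) *
        (x ^ m * v.toMul * (x ^ m)⁻¹) * _ = _
      simp only [pow_succ, mul_assoc, inv_mul_cancel_left]
  have h1 := sum_eq_card_of_norm ρ hx hf (by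
    ext v
    exact mul_eq_right.1 ((h0 _ _).trans (h _ v.toMul.2)))
  intro k hk v hv
  obtain ⟨m, hm⟩ := Coprime.exists_pow_mul_eq_self (M := V) hc
  have hfix : ρ k * ∑ y : K, ρ y = ∑ y : K, ρ y := by
    rw [Finset.mul_sum]
    exact (Finset.sum_congr rfl fun y _ => (map_mul ρ _ _).symm).trans
      (Equiv.sum_comp (Equiv.mulLeft (⟨k, hk⟩ : K)) fun y : K => ρ y)
  have h2 := congrArg (fun f : AddMonoid.End (Additive V) =>
    ((f (Additive.ofMul (⟨v, hv⟩ ^ m))).toMul : G)) hfix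
  have h3 : ((Nat.card K : AddMonoid.End (Additive V)) (Additive.ofMul (⟨v, hv⟩ ^ m))) =
      Additive.ofMul ⟨v, hv⟩ := by
    rw [AddMonoid.End.natCast_apply, ← ofMul_pow, ← pow_mul, mul_comm, hm]
  rw [h1] at h2
  simp only [AddMonoid.End.coe_mul, Function.comp_apply, h3] at h2
  exact (mul_inv_eq_iff_eq_mul.mp h2).symm

omit [Finite G] in
/-- The subgroup `Sz(2) = 5 : 4` of a Suzuki group. -/
theorem sz_five_four {F : Type*} [Field F] (M : Sz.Model F G) :
    orderOf (M.u 1 0) = 4 ∧ orderOf (M.u 0 1 * M.w) = 5 ∧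
      M.u 1 0 * (M.u 0 1 * M.w) * (M.u 1 0)⁻¹ = (M.u 0 1 * M.w) ^ 2 := by
  have := M.toTits.charP
  have := Fact.mk Nat.prime_five
  refine ⟨orderOf_eq_prime_pow (p := 2) (n := 1) ?_ (M.u_pow_four _ _), orderOf_eq_prime ?_ fun e => ?_,
    mul_inv_eq_iff_eq_mul.2 ?_⟩
  · simp [sq, M.u_mul_u, M.u_eq_one]
  · apply M.mat_inj
    simp only [pow_succ, map_mul, M.mat_u, M.mat_w, Sz.Tits.uM, Sz.wM, Sz.mul_fin_four, map_one,
      Sz.one_fin_four, pow_zero]
    simp [Sz.Tits.f, CharTwo.add_self_eq_zero]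
  · have := congrArg (· • M.inf) e
    simp [mul_smul, M.u_smul_zero, M.pt_ne_inf] at this
  · apply M.mat_inj
    simp only [pow_succ, map_mul, M.mat_u, M.mat_w, Sz.Tits.uM, Sz.wM, Sz.mul_fin_four, map_one,
      Sz.one_fin_four, pow_zero]
    simp [Sz.Tits.f, CharTwo.add_self_eq_zero]

/-- A CIT-group with `G / O₂(G)` a Suzuki group and `O₂(G) ≠ 1` has elements of order `8`. -/
theorem IsCIT.eight_of_sz (h : IsCIT G) (h0 : pCore 2 G ≠ ⊥) (hz : Lie.IsoSuzuki (G ⧸ pCore 2 G)) :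
    8 ∈ sp G := by
  obtain ⟨F, _, _, m, -, hF, ⟨e⟩⟩ := hz
  obtain ⟨h1, h2, h3⟩ := sz_five_four ((Sz.lieModel hF).congr e)
  generalize ((Sz.lieModel hF).congr e).u 0 1 * _ = y at *
  generalize ((Sz.lieModel hF).congr e).u 1 0 = x at *
  have hO := Core.pCore_isPGroup 2 G
  have hs := QuotientGroup.mk'_surjective (pCore 2 G)
  have hk := QuotientGroup.ker_mk' (pCore 2 G)
  obtain ⟨y, rfl⟩ := hs y
  have hy := (h.orderOf_eq_of_map _ (by rwa [hk]) (by rw [h2]; decide) (fun e => by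
    simp [e] at h2)).trans h2
  have hc : ∀ V : Subgroup G, IsPGroup 2 V → (Nat.card (zpowers y)).Coprime (Nat.card V) :=
    fun V hV => by
      obtain ⟨k, hk⟩ := IsPGroup.iff_card.1 hV
      rw [Nat.card_zpowers, hy, hk]
      exact Nat.Coprime.pow_right _ (by norm_num)
  obtain ⟨x, hx, rfl⟩ := (Coprime.normalizer_map_of_surjective _ hs (hc _ (by rwa [hk]))
    (.inr (by rw [hk]; exact pgroup_sol hO))).le (show x ∈ _ from mem_normalizer_of_conj_le
      (by rw [MonoidHom.map_zpowers, conj_zpowers, h3]; exact zpowers_le_of_mem (npow_mem_zpowers _ _)))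
  obtain ⟨V, hV, hVQ⟩ := Core.exists_isMinNormal_le inferInstance h0
  have := hV.normal
  have h4 := pgroup_of_le hO hVQ
  obtain ⟨v, hv, v1⟩ := exists_ne_one hV.ne_bot
  by_contra h8
  have h5 : ∀ v ∈ V, (v * x) ^ (3 + 1) = 1 := fun v hv => by
    obtain ⟨k, hk⟩ := Core.isPGroup_subgroup_iff.1 hO ((v * x) ^ 2 ^ 2) (hk.le (by
      rw [MonoidHom.mem_ker, map_pow, map_mul, (hk.ge (hVQ hv) :), one_mul]
      exact orderOf_dvd_iff_pow_eq_one.1 h1.dvd))
    rw [← pow_mul, ← pow_add, ← orderOf_dvd_iff_pow_eq_one] at hk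
    obtain ⟨j, -, hj⟩ := (Nat.dvd_prime_pow Nat.prime_two).1 hk
    rw [← orderOf_dvd_iff_pow_eq_one, hj]
    exact pow_dvd_pow 2 (show j ≤ 2 from not_lt.1 fun h6 =>
      h8 (mem_sp_of_dvd_orderOf _ (hj ▸ pow_dvd_pow 2 h6)))
  refine v1 (h.eq_one_of_pgroup h4 (by rw [hy]; decide) (fun e => by simp [e] at hy) hv
    (cent_of_norm (n := 3) (hV.isElementaryAbelian_of_isPGroup h4).1 hx (fun i i0 i3 => eq_bot_iff.2
      fun k hk => h.eq_one (mem_cent1.1 hk.2) ?_ ?_) (hc V h4) (fun v hv => by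
        rw [h5 v hv, ← one_mul x, h5 1 V.one_mem]) (mem_zpowers y) v hv).symm)
  · exact Odd.of_dvd_nat (by rw [hy]; decide) (orderOf_dvd_of_mem_zpowers hk.1)
  · refine Nat.not_odd_iff_even.1 fun ho => ?_
    have := ho.of_dvd_nat (orderOf_map_dvd (QuotientGroup.mk' (pCore 2 G)) _)
    rw [map_pow, orderOf_pow, h1] at this
    interval_cases i <;> simp at this <;> exact absurd this (by decide)

end Cfsg.Lib.CIT
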